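import Cfsg.Agent.H648.Loc.E6Cent
import Cfsg.Agent.H690.LieRow
import Cfsg.Agent.H163.Steinberg
import Cfsg.Agent.Prune
set_option linter.all false
prune_inst 0x7f00000000000000000000000000000000000000000000000000000000000000000000000000000000000000000000000000000000000000000000000000000000000000000000000000000000000000003fffffffffffffffffffffffffffbeffbdffffffff
open scoped Cfsg.Agent.FastGrp

/-!
# The elements of order 13 of `²E₆(2)` are not nilpotent modulo two (helper648, task 1295)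

The Steinberg character takes the value one at them.
-/

set_option autoImplicit false

open Cfsg Cfsg.Lie

namespace Cfsg.Agent.H648.Loc

open Cfsg.Agent.Blocks.LocalRing
open Cfsg.Agent.Blocks
open Cfsg.Agent.H652.Four
open Cfsg.Agent.Characters.Core

universe u

/-- An irreducible character `θ` of degree `|G|_p`, a rational element `x` of prime order `r` with centralizer of order
prime to `p` and less than `m ^ 2`, where `v ≡ θ 1` modulo `r` and `|v| < m` imply `¬ p ∣ v`. -/
theorem NN_of_steinberg {G : Type u} [Group G] [Finite G] {M : Ideal AlgInt} {p r : ℕ} (hM : IsPModular p M)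
    (hp : p.Prime) (hr : r.Prime) {θ : G → ℂ} (hθ : IsIrrCharacter G θ) {a m : ℕ} (hdeg : θ 1 = ((p ^ a : ℕ) : ℂ))
    (hcard : p ^ (a + 1) ∣ Nat.card G → False)
    {x : G} (hx : orderOf x = r) (hconj : ∀ i : ℕ, ¬ r ∣ i → IsConj x (x ^ i))
    (hc : Nat.card (Subgroup.centralizer ({x} : Set G)) < m ^ 2)
    (harith : ∀ v : ℤ, |v| < m → (r : ℤ) ∣ (p ^ a : ℕ) - v → ¬ (p : ℤ) ∣ v) : NN M (cl x) := by
  obtain ⟨v, hv, hd⟩ := exists_value hr hx hconj hθ
  have hdeg' : charDegree θ = p ^ a := by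
    have h1 : (charDegree θ : ℂ) = ((p ^ a : ℕ) : ℂ) := by
      rw [← Basic.irr_one_eq_charDegree hθ, hdeg]
    exact_mod_cast h1
  rw [hdeg'] at hd
  have h2 := sq_le hθ hv
  have h3 : |v| < m := by
    have h4 : v ^ 2 < (m : ℤ) ^ 2 := lt_of_le_of_lt h2 (by exact_mod_cast hc)
    exact abs_lt_of_sq_lt_sq h4 (by positivity)
  have hpv := harith v h3 hd
  -- the index
  have hidx := (Subgroup.centralizer ({x} : Set G)).card_mul_index
  have hpa : p ^ a ∣ (Subgroup.centralizer ({x} : Set G)).index := by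
    -- the central character is an algebraic integer
    have hint : IsIntegral ℤ (centralChar θ x) := by
      exact Cfsg.Agent.Blocks.CentralScalar.isIntegral_centralChar hθ x
    rw [Basic.centralChar_def, hv, hdeg] at hint
    have hq : ∃ k : ℤ, (((Subgroup.centralizer ({x} : Set G)).index : ℂ) * (v : ℂ) / ((p ^ a : ℕ) : ℂ)) = k := by
      refine Characters.GaloisBasic.exists_int_of_isIntegral hint
        ⟨((Subgroup.centralizer ({x} : Set G)).index : ℚ) * v / ((p ^ a : ℕ) : ℚ), ?_⟩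
      push_cast
      ring
    obtain ⟨k, hk⟩ := hq
    have hp0 : ((p ^ a : ℕ) : ℂ) ≠ 0 := by exact_mod_cast (pow_pos hp.pos a).ne'
    rw [div_eq_iff hp0] at hk
    have h4 : ((Subgroup.centralizer ({x} : Set G)).index : ℤ) * v = k * ((p ^ a : ℕ) : ℤ) := by exact_mod_cast hk
    have h5 : ((p ^ a : ℕ) : ℤ) ∣ ((Subgroup.centralizer ({x} : Set G)).index : ℤ) * v := ⟨k, by rw [h4]; ring⟩
    have hcop : IsCoprime ((p ^ a : ℕ) : ℤ) v := by
      push_cast
      refine IsCoprime.pow_left ?_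
      rw [Int.isCoprime_iff_gcd_eq_one]
      have := (Nat.Prime.coprime_iff_not_dvd hp).2 (fun h => hpv (Int.natCast_dvd.2 h) : ¬ p ∣ v.natAbs)
      rw [Int.gcd_eq_natAbs, Int.natAbs_natCast]
      exact this
    exact_mod_cast hcop.dvd_of_dvd_mul_right h5
  obtain ⟨j, hj⟩ := hpa
  have hpj : ¬ p ∣ j := by
    rintro ⟨i, rfl⟩
    apply hcard
    rw [← hidx, hj]
    exact Dvd.intro (Nat.card (Subgroup.centralizer ({x} : Set G)) * i) (by ring)
  refine NN.of_int hM ⟨θ, hθ⟩ (n := j * v) ?_ ?_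
  · show centralChar θ x = _
    rw [Basic.centralChar_def, hv, hdeg, hj]
    have hp0 : ((p ^ a : ℕ) : ℂ) ≠ 0 := by exact_mod_cast (pow_pos hp.pos a).ne'
    push_cast at hp0 ⊢
    field_simp
  · intro h
    rcases (Nat.prime_iff_prime_int.1 hp).dvd_mul.1 h with h | h
    · exact hpj (by exact_mod_cast h)
    · exact hpv h

/-- **`²E₆(2)`** -/
theorem nn_e6 (K : Type) [Field K] [Fintype K] (hK : Fintype.card K = 4) {M : Ideal AlgInt} (hM : IsPModular 2 M) :
    NN M (ind ↥(twistedE6 K 2) 13) := by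
  have hfin : Finite ↥(twistedE6 K 2) := Nat.finite_of_card_ne_zero (by rw [card_e6 K hK]; norm_num)
  have h13 : Fact (Nat.Prime 13) := ⟨by norm_num⟩
  have h2 : Fact (Nat.Prime 2) := ⟨Nat.prime_two⟩
  have hs : IsSimpleGroup ↥(twistedE6 K 2) := (H897.Cas.simple hK).1
  have hch : CharP K 2 := by
    have hF : Fintype.card K = 2 ^ 2 := by rw [hK]; norm_num
    exact charP_of_card_eq_prime_pow hF
  have hL : IsLieTypeChar 2 ↥(twistedE6 K 2) :=
    Or.inr (Or.inr (Or.inr (Or.inr (Or.inr (Or.inr (Or.inr (Or.inl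
      ⟨K, inferInstance, inferInstance, hch, 2, Nat.prime_two.isPrimePow, Or.inl ⟨by rw [hK]; norm_num,
        ⟨MulEquiv.refl _⟩⟩⟩)))))))
  obtain ⟨θ, hθ, hθ1⟩ := Cfsg.Agent.H163.Steinberg.exists_irr_of_hasSplit (H690.LieRow.hasSplit Nat.prime_two hL)
  obtain ⟨x, hx⟩ := exists_prime_orderOf_dvd_card' (G := ↥(twistedE6 K 2)) 13 (by rw [card_e6 K hK]; norm_num)
  obtain ⟨hcl, hpow⟩ := e6_class K hK hx
  obtain ⟨hc, hc2⟩ := e6_cent hK hx
  rw [← cl_eq_ind hx hcl]
  have hSyl : Nat.card (default : Sylow 2 ↥(twistedE6 K 2)) = 2 ^ 36 := by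
    rw [Sylow.card_eq_multiplicity, card_e6 K hK]
    have h1 : (76532479683774853939200 : ℕ) = 2 ^ 36 * 1113694156575 := by norm_num
    rw [h1, Nat.factorization_mul (by norm_num) (by norm_num), Nat.Prime.factorization_pow Nat.prime_two]
    simp only [Finsupp.add_apply, Finsupp.single_eq_same]
    rw [Nat.factorization_eq_zero_of_not_dvd (n := 1113694156575) (p := 2) (by norm_num)]
  refine NN_of_steinberg (a := 36) (m := 7) hM Nat.prime_two h13.1 hθ ?_ ?_ hx hpow (by omega) ?_
  · rw [(hθ1 default).1, hSyl]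
  · rw [card_e6 K hK]
    intro h
    norm_num at h
  · intro v hv hd
    rw [abs_lt] at hv
    obtain ⟨h1, h2⟩ := hv
    intro h3
    norm_num at hd
    omega

end Cfsg.Agent.H648.Loc
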