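import Mathlib
import Cfsg.Agent.Co2Type.Quad
import Cfsg.Agent.LargeExtra.Base
import Cfsg.Agent.FastGrp
import Cfsg.Agent.Prune
set_option linter.all false
prune_inst 0x7f00000000000000000000000000000000000000000000000000000000000000000000000000000000000000000000000000000000000000000000000000000000000000000000000000000000000000003fffffffffffffffffffffffffffbeffbdffffffff
open scoped Cfsg.Agent.FastGrp

/-!
# Elements of odd prime order have centralizers of index divisible by four (helper648, task 1295)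

`four_dvd_of_large` : in a group with a large extraspecial 2-subgroup.
-/

set_option autoImplicit false

open Subgroup

namespace Cfsg.Agent.H648.Loc

universe u

/-- a 2-group acting on a set of size not divisible by 4 has an orbit of length at most two -/
theorem exists_small_orbit {G : Type*} [Group G] [Finite G] {Q R : Subgroup G} (hQ : IsPGroup 2 Q)
    (h4 : ¬ 4 ∣ R.index) : ∃ g : G, (R.map (MulAut.conj g).toMonoidHom).relIndex Q ∣ 2 := by
  classical
  by_contra hcon
  apply h4
  -- the orbits of `Q` on `G ⧸ R`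
  have key : ∀ a : G ⧸ R, 4 ∣ Nat.card (MulAction.orbit Q a) := by
    intro a
    obtain ⟨g, rfl⟩ := QuotientGroup.mk_surjective a
    have h1 : (MulAction.stabilizer Q ((g : G) : G ⧸ R)) =
        (R.map (MulAut.conj g).toMonoidHom).subgroupOf Q := by
      ext q
      rw [MulAction.mem_stabilizer_iff, mem_subgroupOf]
      have h2 : (q • ((g : G) : G ⧸ R) : G ⧸ R) = (((q : G) * g : G) : G ⧸ R) := rfl
      rw [h2, eq_comm, QuotientGroup.eq]
      constructor
      · intro h
        refine ⟨_, h, ?_⟩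
        show g * (g⁻¹ * (q * g)) * g⁻¹ = q
        group
      · rintro ⟨y, hy, hyq⟩
        have h3 : g * y * g⁻¹ = q := hyq
        rw [← h3]
        have : g⁻¹ * (g * y * g⁻¹ * g) = y := by group
        rw [this]
        exact hy
    have h2 : Nat.card (MulAction.orbit Q ((g : G) : G ⧸ R)) =
        (R.map (MulAut.conj g).toMonoidHom).relIndex Q := by
      rw [Nat.card_congr (MulAction.orbitEquivQuotientStabilizer Q _), h1]
      rfl
    rw [h2]
    have h3 : ¬ (R.map (MulAut.conj g).toMonoidHom).relIndex Q ∣ 2 := fun h => hcon ⟨g, h⟩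
    obtain ⟨n, hn⟩ := (hQ.index ((R.map (MulAut.conj g).toMonoidHom).subgroupOf Q))
    have h4 : (R.map (MulAut.conj g).toMonoidHom).relIndex Q = 2 ^ n := hn
    rw [h4] at h3 ⊢
    have hn2 : 2 ≤ n := by
      by_contra hlt
      apply h3
      interval_cases n <;> norm_num
    calc 4 = 2 ^ 2 := by norm_num
      _ ∣ 2 ^ n := pow_dvd_pow 2 hn2
  have := Fintype.ofFinite (G ⧸ R)
  have h5 : Nat.card (G ⧸ R) = ∑ ω : Quotient (MulAction.orbitRel Q (G ⧸ R)),
      Nat.card (MulAction.orbitRel.Quotient.orbit ω) := by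
    have := Fintype.ofFinite (Quotient (MulAction.orbitRel Q (G ⧸ R)))
    rw [Nat.card_congr (MulAction.selfEquivSigmaOrbits' Q (G ⧸ R)), Nat.card_sigma]
    exact Finset.sum_congr (by ext; simp) fun _ _ => rfl
  show 4 ∣ Nat.card (G ⧸ R)
  rw [h5]
  refine Finset.dvd_sum fun ω _ => ?_
  obtain ⟨a, rfl⟩ := Quotient.exists_rep ω
  exact key a

/-- the abstract form -/
theorem four_dvd {G : Type*} [Group G] [Finite G] {Q : Subgroup G} (hQ : IsPGroup 2 Q) {z : G}
    (hz : ∃ q ∈ Q, q * q = z) (hN : ∀ c, c * z = z * c → ∀ q ∈ Q, c * q * c⁻¹ ∈ Q)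
    (hC : ∀ c, c * z = z * c → (∀ q ∈ Q, c * q = q * c) → c ∈ Q) {x : G} {r : ℕ} (hr2 : ¬ 2 ∣ r)
    (hr1 : r ≠ 1) (hx : orderOf x = r) : 4 ∣ (centralizer ({x} : Set G)).index := by
  by_contra h4
  obtain ⟨g, hg⟩ := exists_small_orbit hQ h4
  obtain ⟨x', hx'⟩ : ∃ x', x' = g * x * g⁻¹ := ⟨_, rfl⟩
  have ho : orderOf x' = r := by
    rw [hx', ← hx]
    exact MulEquiv.orderOf_eq (MulAut.conj g) x
  have hmem : ∀ y, y ∈ (centralizer ({x} : Set G)).map (MulAut.conj g).toMonoidHom ↔ y * x' = x' * y := by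
    intro y
    constructor
    · rintro ⟨c, hc, rfl⟩
      have h1 := mem_centralizer_singleton_iff.1 hc
      show g * c * g⁻¹ * x' = x' * (g * c * g⁻¹)
      rw [hx']
      calc g * c * g⁻¹ * (g * x * g⁻¹) = g * (c * x) * g⁻¹ := by group
        _ = g * (x * c) * g⁻¹ := by rw [h1]
        _ = _ := by group
    · intro h
      refine ⟨g⁻¹ * y * g, mem_centralizer_singleton_iff.2 ?_, ?_⟩
      · rw [hx'] at h
        calc g⁻¹ * y * g * x = g⁻¹ * (y * (g * x * g⁻¹)) * g := by group
          _ = g⁻¹ * ((g * x * g⁻¹) * y) * g := by rw [h]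
          _ = _ := by group
      · show g * (g⁻¹ * y * g) * g⁻¹ = y
        group
  generalize hRdef : (centralizer ({x} : Set G)).map (MulAut.conj g).toMonoidHom = R at hg hmem
  -- two elements outside differ by an element inside
  have hprod : ∀ a ∈ Q, ∀ b ∈ Q, a ∉ R → b ∉ R → a * b ∈ R := by
    intro a ha b hb haR hbR
    have h1 : (R.subgroupOf Q).index ∣ 2 := hg
    rcases (Nat.dvd_prime Nat.prime_two).1 h1 with h2 | h2
    · exfalso
      apply haR
      have h3 : R.subgroupOf Q = ⊤ := Subgroup.index_eq_one.1 h2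
      have h4 : (⟨a, ha⟩ : Q) ∈ R.subgroupOf Q := by rw [h3]; exact mem_top _
      exact h4
    · have h3 := (Subgroup.mul_mem_iff_of_index_two h2 (a := ⟨a, ha⟩) (b := ⟨b, hb⟩)).2
        ⟨fun h => absurd h haR, fun h => absurd h hbR⟩
      exact h3
  have hsq : ∀ a ∈ Q, a * a ∈ R := by
    intro a ha
    by_cases h : a ∈ R
    · exact mul_mem h h
    · exact hprod a ha a ha h h
  have hzR : z ∈ R := by
    obtain ⟨q, hq, rfl⟩ := hz
    exact hsq q hq
  have hzx : x' * z = z * x' := ((hmem z).1 hzR).symm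
  -- `x'` centralises `Q`
  have hcen : ∀ q ∈ Q, x' * q = q * x' := by
    intro q hq
    by_cases hqR : q ∈ R
    · exact ((hmem q).1 hqR).symm
    · have h1 : x' * q * x'⁻¹ ∈ Q := hN x' hzx q hq
      have h2 : x' * q * x'⁻¹ ∉ R := by
        intro h
        apply hqR
        rw [hmem] at h ⊢
        have h3 : x' * (q * x') = x' * (x' * q) := by
          calc x' * (q * x') = (x' * q * x'⁻¹ * x') * x' := by group
            _ = x' * (x' * q * x'⁻¹) * x' := by rw [h]
            _ = x' * (x' * q) := by group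
        exact mul_left_cancel h3
      have h3 : q⁻¹ * (x' * q * x'⁻¹) ∈ R := by
        refine hprod _ (inv_mem hq) _ h1 (fun h => hqR ?_) h2
        rw [← inv_inv q]
        exact inv_mem h
      obtain ⟨c, hc⟩ : ∃ c, c = q⁻¹ * (x' * q * x'⁻¹) := ⟨_, rfl⟩
      rw [← hc] at h3
      have hcQ : c ∈ Q := by rw [hc]; exact mul_mem (inv_mem hq) h1
      have hcx := (hmem c).1 h3
      have hxq : x' * q * x'⁻¹ = q * c := by rw [hc]; group
      have hpow : ∀ n : ℕ, x' ^ n * q * (x' ^ n)⁻¹ = q * c ^ n := by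
        intro n
        induction n with
        | zero => simp
        | succ n ih =>
          have h5 : x' * c ^ n * x'⁻¹ = c ^ n := by
            have : Commute x' (c ^ n) := (show Commute x' c from hcx.symm).pow_right n
            rw [this.eq]; group
          calc x' ^ (n + 1) * q * (x' ^ (n + 1))⁻¹ = x' * (x' ^ n * q * (x' ^ n)⁻¹) * x'⁻¹ := by
                rw [pow_succ']; group
            _ = x' * (q * c ^ n) * x'⁻¹ := by rw [ih]
            _ = (x' * q * x'⁻¹) * (x' * c ^ n * x'⁻¹) := by group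
            _ = q * c * c ^ n := by rw [hxq, h5]
            _ = q * c ^ (n + 1) := by rw [pow_succ', mul_assoc]
      have h6 := hpow r
      rw [← ho, pow_orderOf_eq_one, ho, one_mul, inv_one, mul_one] at h6
      have h7 : c ^ r = 1 := (mul_eq_left.1 h6.symm)
      obtain ⟨k, hk⟩ := hQ ⟨c, hcQ⟩
      have hk' : c ^ 2 ^ k = 1 := by simpa using congrArg Subtype.val hk
      have h8 : orderOf c = 1 := Nat.eq_one_of_dvd_coprimes
        (((Nat.Prime.coprime_iff_not_dvd Nat.prime_two).2 hr2).symm.pow_right k)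
        (orderOf_dvd_of_pow_eq_one h7) (orderOf_dvd_of_pow_eq_one hk')
      rw [orderOf_eq_one_iff.1 h8, mul_one] at hxq
      calc x' * q = x' * q * x'⁻¹ * x' := by group
        _ = q * x' := by rw [hxq]
  have h9 : x' ∈ Q := hC x' hzx hcen
  obtain ⟨k, hk⟩ := hQ ⟨x', h9⟩
  have hk' : x' ^ 2 ^ k = 1 := by simpa using congrArg Subtype.val hk
  have h10 := orderOf_dvd_of_pow_eq_one hk'
  rw [ho] at h10
  exact hr1 (Nat.eq_one_of_dvd_coprimes
    (((Nat.Prime.coprime_iff_not_dvd Nat.prime_two).2 hr2).symm.pow_right k) dvd_rfl h10)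

theorem exists_of_two_lt {G : Type*} [Group G] [Finite G] {z : G}
    (h : 2 < Nat.card (centralizer ({z} : Set G))) : ∃ c, c * z = z * c ∧ c ≠ 1 ∧ c ≠ z := by
  by_contra hcon
  have h1 : ∀ c, c * z = z * c → c ≠ 1 → c = z := fun c hc hc1 => by
    by_contra h2
    exact hcon ⟨c, hc, hc1, h2⟩
  have h2 : ((centralizer ({z} : Set G) : Subgroup G) : Set G) ⊆ {1, z} := by
    intro c hc
    by_cases hc1 : c = 1
    · exact Or.inl hc1
    · exact Or.inr (h1 c (mem_centralizer_singleton_iff.1 hc) hc1)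
  have h3 : Nat.card (centralizer ({z} : Set G)) ≤ 2 := by
    have h4 := Set.ncard_le_ncard h2 (Set.toFinite _)
    have h5 : ({1, z} : Set G).ncard ≤ 2 := by
      have := Set.ncard_insert_le (1 : G) {z}
      rw [Set.ncard_singleton] at this
      exact this
    exact h4.trans h5
  omega

open Cfsg.Agent.Co2Type.Quad in
/-- **Large extraspecial subgroups.** -/
theorem four_dvd_of_large {G : Type*} [Group G] [Finite G] {Q : Subgroup G} {z : G} (h : Large Q z)
    (hz : 2 < Nat.card (centralizer ({z} : Set G))) {x : G} {r : ℕ} (hr2 : ¬ 2 ∣ r)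
    (hr1 : r ≠ 1) (hx : orderOf x = r) : 4 ∣ (centralizer ({x} : Set G)).index := by
  refine four_dvd (LargeExtra.Base.isPGroup h) (z := z) ?_ h.conj_mem h.self hr2 hr1 hx
  by_contra hcon
  have h1 : ∀ q ∈ Q, q * q = 1 := fun q hq => (h.sq q hq).resolve_right fun h2 => hcon ⟨q, hq, h2⟩
  have h5 : ∀ q ∈ Q, q = 1 ∨ q = z := fun q hq => h.cent q hq (fun y hy => by
    have h2 := h1 (q * y) (mul_mem hq hy)
    have h3 := h1 q hq
    have h4 := h1 y hy
    calc q * y = (q * y)⁻¹ := eq_inv_of_mul_eq_one_left h2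
      _ = y⁻¹ * q⁻¹ := mul_inv_rev q y
      _ = y * q := by rw [← eq_inv_of_mul_eq_one_left h3, ← eq_inv_of_mul_eq_one_left h4])
  obtain ⟨c, hc, hc1, hcz⟩ := exists_of_two_lt hz
  rcases h5 c (h.self c hc fun q hq => by
    rcases h5 q hq with rfl | rfl
    · rw [mul_one, one_mul]
    · exact hc) with h6 | h6
  · exact hc1 h6
  · exact hcz h6

/-- transport -/
theorem index_cent {G H : Type*} [Group G] [Group H] (e : G ≃* H) (x : G) :
    (centralizer ({x} : Set G)).index = (centralizer ({e x} : Set H)).index := by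
  have e1 : centralizer ({x} : Set G) = (centralizer ({e x} : Set H)).comap e.toMonoidHom := by
    ext g
    rw [mem_comap, mem_centralizer_singleton_iff, mem_centralizer_singleton_iff]
    constructor
    · intro h
      have := congrArg e h
      simpa using this
    · intro h
      apply e.injective
      simpa using h
  rw [e1, index_comap_of_surjective _ e.surjective]

end Cfsg.Agent.H648.Loc
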