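import Cfsg.Agent.H648.Loc.RowB
import Cfsg.Agent.CTwoTab.Monster
import Cfsg.Agent.H713.Spor.MOf
import Cfsg.Agent.FastGrp
import Cfsg.Agent.Prune
set_option linter.all false
prune_inst 0x7f00000000000000000000000000000000000000000000000000000000000000000000000000000000000000000000000000000000000000000000000000000000000000000000000000000000000000003fffffffffffffffffffffffffffbeffbdffffffff
open scoped Cfsg.Agent.FastGrp

/-!
# The Monster: a class of elements of order 13 is not nilpotent modulo two (helper648, task 1295)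
-/

set_option autoImplicit false
set_option maxRecDepth 100000

open Subgroup Cfsg Cfsg.Lie

namespace Cfsg.Agent.H648.Loc

open Cfsg.Agent.Blocks.LocalRing
open Cfsg.Agent.Blocks
open Cfsg.Agent.H652.Four
open Cfsg.Agent.MonsterX.Model Cfsg.Agent.MonsterX.MainPack
  Cfsg.Agent.MonsterX.MainSimple Cfsg.Agent.MonsterX.MainBasic Cfsg.Agent.MonsterU.Assembly

universe u

/-- Elements of order 13 of a central double cover of the Baby Monster. -/
theorem cover_main {H : Type u} [Group H] [Finite H] (h : Cfsg.IsNonsplitDoubleCover H Spor.BabyMonster) :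
    (∃ x : H, orderOf x = 13) ∧ (∀ x y : H, orderOf x = 13 → orderOf y = 13 → IsConj x y) ∧
      ∀ M : Ideal AlgInt, IsPModular 2 M → NN M (ind H 13) := by
  obtain ⟨hZ, ⟨e⟩, -⟩ := h
  have h13 : Nat.Prime 13 := by norm_num
  let φ : H →* Spor.BabyMonster := e.toMonoidHom.comp (QuotientGroup.mk' (center H))
  have hφ : Function.Surjective φ := e.surjective.comp (QuotientGroup.mk'_surjective _)
  have hker : φ.ker = center H := by
    ext x
    rw [MonoidHom.mem_ker]
    show e (QuotientGroup.mk x) = 1 ↔ _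
    rw [map_eq_one_iff e e.injective, QuotientGroup.eq_one_iff]
  have hk2 : IsPGroup 2 φ.ker := by
    rw [hker]
    exact IsPGroup.of_card (n := 1) (by rw [hZ, pow_one])
  obtain ⟨⟨x₁, hx₁⟩, hone, hNN⟩ := b_main
  obtain ⟨x, hx, hxo⟩ := exists_lift hφ hk2 h13 (by norm_num) hx₁
  refine ⟨⟨x, hxo⟩, fun a b ha hb => ?_, fun M hM => NN_ind_quot hφ hker.le hk2 h13 (by norm_num) (hNN M hM)⟩
  have ho : ∀ a : H, orderOf a = 13 → orderOf (φ a) = 13 := by
    intro a ha
    have h1 : orderOf (φ a) ∣ 13 := by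
      rw [← ha]
      exact orderOf_map_dvd φ a
    rcases (Nat.dvd_prime h13).1 h1 with h2 | h2
    · exfalso
      rw [orderOf_eq_one_iff] at h2
      obtain ⟨k, hk⟩ := hk2 ⟨a, h2⟩
      have hk' : a ^ 2 ^ k = 1 := by simpa using congrArg Subtype.val hk
      have h4 := orderOf_dvd_of_pow_eq_one hk'
      rw [ha] at h4
      have h5 := Nat.eq_one_of_dvd_coprimes (a := 13) (b := 2 ^ k) (k := 13) ((by norm_num : Nat.Coprime 13 2).pow_right k)
        dvd_rfl h4
      norm_num at h5
    · exact h2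
  obtain ⟨g, hg⟩ := isConj_iff.1 (hone _ _ (ho a ha) (ho b hb))
  obtain ⟨g, rfl⟩ := hφ g
  refine isConj_iff.2 ⟨g, ?_⟩
  refine eq_of_map_eq (φ := φ) (p := 2) (r := 13) (by norm_num) hker.le hk2 ?_ ?_ ?_
  · rw [conj_pow, ← ha, pow_orderOf_eq_one]; group
  · rw [← hb, pow_orderOf_eq_one]
  · rw [map_mul, map_mul, map_inv, hg]

/-- from the centralizer of an element `t` such that `C(t)` is a double cover of the Baby Monster -/
theorem nn_of_cover {G : Type u} [Group G] [Finite G] {t : G}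
    (h : Cfsg.IsNonsplitDoubleCover (centralizer ({t} : Set G)) Spor.BabyMonster) :
    ∃ x : G, orderOf x = 13 ∧ ∀ M : Ideal AlgInt, IsPModular 2 M → NN M (cl x) := by
  obtain ⟨⟨x, hx⟩, hone, hNN⟩ := cover_main h
  refine ⟨x, by rw [Subgroup.orderOf_coe, hx], fun M hM => ?_⟩
  have htC : t ∈ centralizer ({t} : Set G) := mem_centralizer_singleton_iff.2 rfl
  have hcc : centralizer ((zpowers t : Subgroup G) : Set G) = centralizer ({t} : Set G) := by
    ext g
    rw [mem_centralizer_singleton_iff, mem_centralizer_iff]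
    constructor
    · intro h
      exact (h t (mem_zpowers t)).symm
    · rintro h _ ⟨m, rfl⟩
      exact ((show Commute g t from h).zpow_right m).eq.symm
  have ht2 : t ^ 2 = 1 := by
    have h1 : (⟨t, htC⟩ : centralizer ({t} : Set G)) ∈ center ↥(centralizer ({t} : Set G)) := by
      rw [mem_center_iff]
      intro g
      exact Subtype.ext (mem_centralizer_singleton_iff.1 g.2)
    have h2 : (⟨⟨t, htC⟩, h1⟩ : center ↥(centralizer ({t} : Set G))) ^ 2 = 1 := by
      rw [← h.1]
      exact pow_card_eq_one'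
    exact congrArg (fun z : center ↥(centralizer ({t} : Set G)) => ((z : ↥(centralizer ({t} : Set G))) : G)) h2
  have hP : IsPGroup 2 (zpowers t) := by
    rintro ⟨_, m, rfl⟩
    refine ⟨1, Subtype.ext ?_⟩
    show (t ^ m) ^ 2 ^ 1 = 1
    rw [pow_one, ← zpow_natCast, zpow_comm, zpow_natCast, ht2, one_zpow]
  refine NN_cl_of_ind (r := 13) (P := zpowers t) hM hP ?_ (by rw [Subgroup.orderOf_coe, hx]) ?_ ?_
  · rw [hcc, zpowers_le]
    exact htC
  · intro y hy hyo
    rw [hcc] at hy
    have h1 := hone x ⟨y, hy⟩ hx (by rw [← Subgroup.orderOf_coe]; exact hyo)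
    exact (centralizer ({t} : Set G)).subtype.map_isConj h1
  · rw [hcc]
    exact hNN M hM

/-- **The Monster.** -/
theorem loc_M {S : Type u} [Group S] [Finite S] (h : Cfsg.Spor.IsoM S) : Loc S := by
  obtain ⟨e⟩ := h
  obtain ⟨f⟩ := Cfsg.Agent.MonsterP.Equiv.equiv
  have A := Cfsg.Agent.MonsterU.Uncond.all
  have := G_finite A.hO
  obtain ⟨x, hx, hNN⟩ := nn_of_cover (Cfsg.Agent.CTwoTab.MonsterOf.cover_t A
    (Cfsg.Agent.MonsterP.NodesGrp.prel Cfsg.Agent.MonsterU.NodesU.hyp)
    (Cfsg.Agent.MonsterP.NodesNe.ne Cfsg.Agent.MonsterU.NodesU.hyp) Cfsg.Agent.MonsterU.NodesU.conj_ten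
    Cfsg.Agent.S1704.result)
  refine Loc_of_equiv (e.trans f) ?_ hNN
  refine four_dvd_of_large (Cfsg.Agent.MonsterU.ModelChart.large A.hG A.hR A.hL A.hO A.hT) ?_ (r := 13)
    (by norm_num) (by norm_num) hx
  have h1 := Cfsg.Agent.H713.Spor.MOf.card_cent_z A.hG A.hR A.hL A.hO A.hT
  rw [h1]
  norm_num

end Cfsg.Agent.H648.Loc
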