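import Cfsg.Agent.H378.RegE7
import Cfsg.Agent.H898.F4Hom_mg
import Cfsg.Agent.S1054
import Cfsg.Agent.BabyU.CentT1
import Cfsg.Agent.S1062
import Cfsg.Agent.H648.Loc.Value_m3
import Cfsg.Agent.H897.Data
import Cfsg.Agent.FastGrp
import Cfsg.Agent.Prune
set_option linter.all false
prune_inst 0x7f00000000000000000000000000000000000000000000000000000000000000000000000000000000000000000000000000000000000000000000000000000000000000000000000000000000000000003fffffffffffffffffffffffffffbeffbdffffffff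
open scoped Cfsg.Agent.FastGrp

-- part: H648/Loc/F4Two
section
/-!
# Elements of order 13 in `F₄(2)` and in `²E₆(2)` (helper648, task 1295)

* `exists_norm` : Sylow counting: a self-centralizing element of prime order whose normalizer is forced to be full
  by Sylow's theorem;
* `f4_norm` : `F₄(2)` has elements `x`, `y` with `x` of order 13 and `y x y⁻¹ = x ^ 2`;
* `e6_norm` : the same for `²E₆(2)`;
* `e6_class` : `²E₆(2)` has one class of elements of order 13.
-/

set_option autoImplicit false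

open Cfsg Cfsg.Lie

namespace Cfsg.Agent.H648.Loc

universe u v

theorem card_mul_normalizer {G : Type u} [Group G] [Finite G] {r : ℕ} [hr : Fact r.Prime] (P : Sylow r G) :
    ∃ n, n ≡ 1 [MOD r] ∧ Nat.card (Subgroup.normalizer ((P : Subgroup G) : Set G)) * n = Nat.card G := by
  refine ⟨Nat.card (Sylow r G), card_sylow_modEq_one r G, ?_⟩
  rw [P.card_eq_index_normalizer]
  exact Subgroup.card_mul_index _

/-- **Sylow counting.** -/
theorem exists_norm {G : Type u} [Group G] [Finite G] {r : ℕ} (hr : r.Prime) (hG : ¬ r ^ 2 ∣ Nat.card G)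
    {x : G} (hx : orderOf x = r) (hc : Nat.card (Subgroup.centralizer ({x} : Set G)) = r)
    (harith : ∀ e n : ℕ, e ∣ r - 1 → n % r = 1 → r * e * n = Nat.card G → e = r - 1) (i : ℕ) (hi : ¬ r ∣ i) :
    ∃ y : G, y * x * y⁻¹ = x ^ i := by
  have : Fact r.Prime := ⟨hr⟩
  have h1 : IsPGroup r (Subgroup.zpowers x) :=
    IsPGroup.of_card (n := 1) (by rw [Nat.card_zpowers, hx, pow_one])
  have h2 : ¬ r ∣ (Subgroup.zpowers x).index := by
    intro h
    apply hG
    rw [← (Subgroup.zpowers x).card_mul_index, Nat.card_zpowers, hx, pow_two]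
    exact Nat.mul_dvd_mul_left _ h
  obtain ⟨n, hn, hcard⟩ := card_mul_normalizer (h1.toSylow h2)
  have hP : ((h1.toSylow h2 : Sylow r G) : Subgroup G) = Subgroup.zpowers x := rfl
  rw [hP] at hcard
  -- the action of the normalizer
  have hker := Subgroup.normalizerMonoidHom_ker (Subgroup.zpowers x)
  have hcc : Subgroup.centralizer ((Subgroup.zpowers x : Subgroup G) : Set G) =
      Subgroup.centralizer ({x} : Set G) := by
    ext g
    rw [Subgroup.mem_centralizer_singleton_iff, Subgroup.mem_centralizer_iff]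
    constructor
    · intro h
      exact (h x (Subgroup.mem_zpowers x)).symm
    · rintro h _ ⟨m, rfl⟩
      exact ((show Commute g x from h).zpow_right m).eq.symm
  have hkc : Nat.card (Subgroup.normalizerMonoidHom (Subgroup.zpowers x)).ker = r := by
    rw [hker, hcc, ← hc]
    refine Nat.card_congr (Subgroup.subgroupOfEquivOfLe ?_).toEquiv
    rw [← hcc]
    exact Subgroup.centralizer_le_normalizer _
  have hcyc : IsCyclic (Subgroup.zpowers x) := inferInstance
  have hca : Nat.card (MulAut (Subgroup.zpowers x)) = r - 1 := by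
    rw [IsCyclic.card_mulAut, Nat.card_zpowers, hx, Nat.totient_prime hr]
  have hfin : Finite (MulAut (Subgroup.zpowers x)) := Nat.finite_of_card_ne_zero (by
    rw [hca]; have := hr.two_le; omega)
  have hrange : Nat.card (Subgroup.normalizerMonoidHom (Subgroup.zpowers x)).range * r =
      Nat.card (Subgroup.normalizer ((Subgroup.zpowers x : Subgroup G) : Set G)) := by
    rw [← hkc, ← Subgroup.card_mul_index (Subgroup.normalizerMonoidHom (Subgroup.zpowers x)).ker,
      Subgroup.index_ker, mul_comm]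
  have he := harith (Nat.card (Subgroup.normalizerMonoidHom (Subgroup.zpowers x)).range) n
    (hca ▸ Subgroup.card_subgroup_dvd_card _) (by
      unfold Nat.ModEq at hn
      rwa [Nat.mod_eq_of_lt hr.one_lt] at hn) (by
      rw [← hcard, ← hrange]; ring)
  have htop : (Subgroup.normalizerMonoidHom (Subgroup.zpowers x)).range = ⊤ := by
    refine Subgroup.eq_top_of_card_eq _ ?_
    rw [he, hca]
  -- the power automorphism
  have hbij : Function.Bijective (fun g : Subgroup.zpowers x => g ^ i) := by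
    rw [← Finite.injective_iff_bijective]
    refine Nat.Coprime.pow_left_bijective ?_ |>.1
    rw [Nat.card_zpowers, hx]
    exact ((Nat.Prime.coprime_iff_not_dvd hr).2 hi)
  let α : MulAut (Subgroup.zpowers x) :=
    { Equiv.ofBijective _ hbij with
      map_mul' := fun a b => by
        have hab : Commute a b := by
          obtain ⟨a, m, rfl⟩ := a
          obtain ⟨b, n, rfl⟩ := b
          exact Subtype.ext (Commute.zpow_zpow (Commute.refl x) m n)
        exact hab.mul_pow i }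
  obtain ⟨y, hy⟩ : α ∈ (Subgroup.normalizerMonoidHom (Subgroup.zpowers x)).range := by
    rw [htop]; exact Subgroup.mem_top _
  refine ⟨y, ?_⟩
  have h3 := congrArg Subtype.val (DFunLike.congr_fun hy ⟨x, Subgroup.mem_zpowers x⟩)
  rw [Subgroup.normalizerMonoidHom_apply_apply_coe] at h3
  rw [h3]
  rfl

theorem card_f4 : Nat.card ↥(chevF4.group (ZMod 2)) = 3311126603366400 := by
  rw [Cfsg.Agent.S1062.result (F := ZMod 2) (q := 2) (ZMod.card 2)]
  norm_num

theorem od_two : H378.ExcAdj.od 2 13 = 12 := by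
  have h13 : Fact (Nat.Prime 13) := ⟨by norm_num⟩
  refine orderOf_eq_of_pow_and_pow_div_prime (by norm_num) ?_ ?_
  · decide
  · intro p hp hd
    have h1 : p ≤ 12 := Nat.le_of_dvd (by norm_num) hd
    have h2 : p = 2 ∨ p = 3 := by
      have h3 : p ∣ 2 ^ 2 * 3 := by norm_num; exact hd
      rcases (Nat.Prime.dvd_mul hp).1 h3 with h4 | h4
      · exact Or.inl ((Nat.prime_dvd_prime_iff_eq hp Nat.prime_two).1 (hp.dvd_of_dvd_pow h4))
      · exact Or.inr ((Nat.prime_dvd_prime_iff_eq hp Nat.prime_three).1 h4)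
    rcases h2 with rfl | rfl <;> decide

theorem eval_c12 : (Polynomial.cyclotomic 12 ℤ).eval ((2 : ℕ) : ℤ) = 13 := by
  have h := Polynomial.cyclotomic_expand_eq_cyclotomic Nat.prime_two (show 2 ∣ 6 by norm_num) ℤ
  rw [show 6 * 2 = 12 from rfl, Polynomial.cyclotomic_six] at h
  rw [← h, Polynomial.expand_eval]
  simp

/-- the centralizer of an element of order 13 of `F₄(2)` -/
theorem f4_cent {x : ↥(chevF4.group (ZMod 2))} (hx : orderOf x = 13) :
    Nat.card (Subgroup.centralizer ({x} : Set ↥(chevF4.group (ZMod 2)))) = 13 := by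
  have h13 : Nat.Prime 13 := by norm_num
  have h := (Cfsg.Agent.H378.RegFin.cent_od (D := chevF4) (l := 4) (m := 12) Cfsg.Agent.BpExc.RowsUntw.f4T
    Cfsg.Agent.BpExc.FamInst.inv_F4 one_ne_zero h13 hx (by rw [Nat.card_zmod]; exact od_two) (by decide)
    (by norm_num)).2
  rw [Nat.card_zmod, eval_c12] at h
  have h2 : 13 ∣ Nat.card (Subgroup.centralizer ({x} : Set ↥(chevF4.group (ZMod 2)))) := by
    rw [← hx]
    exact Subgroup.orderOf_dvd_natCard _ (Subgroup.mem_centralizer_singleton_iff.2 rfl)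
  exact Nat.dvd_antisymm h h2

theorem f4_arith (e n : ℕ) (he : e ∣ 13 - 1) (hn : n % 13 = 1) (h : 13 * e * n = 3311126603366400) :
    e = 13 - 1 := by
  have h1 : e * n = 254702046412800 := by
    have : 13 * (e * n) = 13 * 254702046412800 := by rw [← mul_assoc, h]
    exact Nat.eq_of_mul_eq_mul_left (by norm_num) this
  have h2 : (e * n) % 13 = e % 13 := by rw [Nat.mul_mod, hn, mul_one, Nat.mod_mod]
  rw [h1] at h2
  have h3 : e ≤ 12 := Nat.le_of_dvd (by norm_num) he
  rw [Nat.mod_eq_of_lt (by omega : e < 13)] at h2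
  rw [← h2]

/-- the normalizer of a subgroup of order 13 of `F₄(2)` -/
theorem f4_norm : ∃ x y : ↥(chevF4.group (ZMod 2)), orderOf x = 13 ∧ y * x * y⁻¹ = x ^ 2 := by
  have hfin : Finite ↥(chevF4.group (ZMod 2)) := Nat.finite_of_card_ne_zero (by rw [card_f4]; norm_num)
  have h13 : Fact (Nat.Prime 13) := ⟨by norm_num⟩
  obtain ⟨x, hx⟩ := exists_prime_orderOf_dvd_card' (G := ↥(chevF4.group (ZMod 2))) 13
    (by rw [card_f4]; norm_num)
  obtain ⟨y, hy⟩ := exists_norm h13.1 (by rw [card_f4]; norm_num) hx (f4_cent hx)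
    (fun e n he hn h => f4_arith e n he hn (by rw [h, card_f4])) 2 (by norm_num)
  exact ⟨x, y, hx, hy⟩

open Cfsg.Agent.H898.F4Emb Cfsg.Agent.TwoESix.Iso in
theorem X_ne : X 0 ≠ 1 := by
  intro h
  have h1 := codes_X (r := 0) (by norm_num)
  rw [h] at h1
  have h2 : Cfsg.Agent.Lib.F2Mat.toMat 78 (Cfsg.Agent.H898.F4Data.xs.getD 0 0) =
      Cfsg.Agent.Lib.F2Mat.toMat 78 (Cfsg.Agent.Lib.F2Mat.one 78) := by
    rw [Cfsg.Agent.Lib.F2Mat.toMat_one, ← h1]
    rfl
  have h3 : ((List.finRange 78).any fun i => (List.finRange 78).any fun j =>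
      (Cfsg.Agent.H898.F4Data.xs.getD 0 0).testBit (78 * i + j) !=
        (Cfsg.Agent.Lib.F2Mat.one 78).testBit (78 * i + j)) = true := by decide +kernel
  obtain ⟨i, -, hi⟩ := List.any_eq_true.1 h3
  obtain ⟨j, -, hj⟩ := List.any_eq_true.1 hi
  have h4 := congrFun (congrFun h2 i) j
  rw [Cfsg.Agent.Lib.F2Mat.toMat_apply, Cfsg.Agent.Lib.F2Mat.toMat_apply] at h4
  have h5 : ∀ a b : Bool, Cfsg.Agent.Lib.F2Mat.bz a = Cfsg.Agent.Lib.F2Mat.bz b → a = b := by decide
  rw [h5 _ _ h4] at hj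
  simp at hj

/-- **`²E₆(2)`**: an element of order 13 and an element inducing `x ↦ x ^ 2` -/
theorem e6_norm (K : Type*) [Field K] [Fintype K] (hK : Fintype.card K = 4) :
    ∃ x y : ↥(twistedE6 K 2), orderOf x = 13 ∧ y * x * y⁻¹ = x ^ 2 := by
  obtain ⟨x, y, hx, hxy⟩ := f4_norm
  obtain ⟨e⟩ := Cfsg.Agent.H898.StEquiv.exists_equiv (K := ZMod 2) chevF4 (by simp)
  obtain ⟨e'⟩ := Cfsg.Agent.TwoESix.Iso.nonempty_equiv K hK
  let f : ↥(chevF4.group (ZMod 2)) →* ↥Cfsg.Agent.TwoESix.Iso.Gam :=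
    (Cfsg.Agent.H898.F4Emb.stHom.codRestrict _ Cfsg.Agent.H898.F4Emb.stHom_mem).comp e.symm.toMonoidHom
  let g : ↥(chevF4.group (ZMod 2)) →* ↥(twistedE6 K 2) := e'.symm.toMonoidHom.comp f
  have hs : IsSimpleGroup ↥(chevF4.group (ZMod 2)) := (Cfsg.Agent.S1054.result (F := ZMod 2) chevF4 (by simp)).1
  have hk : g.ker = ⊥ := by
    rcases hs.eq_bot_or_eq_top_of_normal g.ker inferInstance with h | h
    · exact h
    · exfalso
      apply X_ne
      have h1 : (e (chevF4.stGen (ZMod 2) 0 1)) ∈ g.ker := by rw [h]; exact Subgroup.mem_top _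
      rw [MonoidHom.mem_ker] at h1
      have h2 : f (e (chevF4.stGen (ZMod 2) 0 1)) = 1 := by
        apply e'.symm.injective
        rw [map_one]
        exact h1
      have h3 := congrArg Subtype.val h2
      have h4 : ((f (e (chevF4.stGen (ZMod 2) 0 1))) : GL (Fin 78) (ZMod 2)) =
          Cfsg.Agent.H898.F4Emb.stHom (e.symm (e (chevF4.stGen (ZMod 2) 0 1))) := rfl
      rw [h4, e.symm_apply_apply, Cfsg.Agent.H898.F4Emb.stHom_stGen] at h3
      exact h3
  have hinj : Function.Injective g := (MonoidHom.ker_eq_bot_iff g).1 hk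
  refine ⟨g x, g y, ?_, ?_⟩
  · rw [orderOf_injective g hinj, hx]
  · rw [← map_inv, ← map_mul, ← map_mul, hxy, map_pow]

/-- an element of order 13 conjugate to its square is conjugate to all its generating powers -/
theorem conj_pow_of_two {G : Type*} [Group G] {x y : G} (hx : orderOf x = 13) (h : y * x * y⁻¹ = x ^ 2) (i : ℕ)
    (hi : ¬ 13 ∣ i) : IsConj x (x ^ i) := by
  have h1 : ∀ n : ℕ, IsConj x (x ^ 2 ^ n) := by
    intro n
    induction n with
    | zero => rw [pow_zero, pow_one]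
    | succ n ih =>
      refine ih.trans (isConj_iff.2 ⟨y, ?_⟩)
      rw [← conj_pow, h, ← pow_mul, pow_succ, mul_comm]
  have h2 : ∀ i < 13, ¬ 13 ∣ i → ∃ n < 12, 2 ^ n % 13 = i := by decide
  obtain ⟨n, -, hn⟩ := h2 (i % 13) (Nat.mod_lt _ (by norm_num)) (by omega)
  have h3 : x ^ i = x ^ 2 ^ n := by
    rw [pow_eq_pow_iff_modEq, hx]
    exact hn.symm
  rw [h3]
  exact h1 n

theorem card_e6 (K : Type*) [Field K] [Fintype K] (hK : Fintype.card K = 4) :
    Nat.card ↥(twistedE6 K 2) = 76532479683774853939200 := Cfsg.Agent.BabyU.CentT1.card_E K hK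

/-- **`²E₆(2)` has one class of elements of order 13.** -/
theorem e6_class (K : Type*) [Field K] [Fintype K] (hK : Fintype.card K = 4) {x : ↥(twistedE6 K 2)}
    (hx : orderOf x = 13) : (∀ y : ↥(twistedE6 K 2), orderOf y = 13 → IsConj x y) ∧
      ∀ i : ℕ, ¬ 13 ∣ i → IsConj x (x ^ i) := by
  have hfin : Finite ↥(twistedE6 K 2) := Nat.finite_of_card_ne_zero (by rw [card_e6 K hK]; norm_num)
  have h13 : Nat.Prime 13 := by norm_num
  obtain ⟨x0, y0, hx0, hxy⟩ := e6_norm K hK
  have h0 : ∀ y : ↥(twistedE6 K 2), orderOf y = 13 → IsConj x0 y := fun y hy =>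
    one_class h13 (by rw [card_e6 K hK]; norm_num) hx0 (conj_pow_of_two hx0 hxy) hy
  have h1 : ∀ y : ↥(twistedE6 K 2), orderOf y = 13 → IsConj x y := fun y hy => (h0 x hx).symm.trans (h0 y hy)
  refine ⟨h1, fun i hi => h1 _ ?_⟩
  rw [← hx]
  exact Nat.Coprime.orderOf_pow (by rw [hx]; exact ((Nat.Prime.coprime_iff_not_dvd h13).2 hi))

end Cfsg.Agent.H648.Loc
end

-- part: H648/Loc/E6Cent
section
/-!
# The centralizer of an element of order 13 of `²E₆(2)` (helper648, task 1295)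

`e6_cent` : its order divides 39 (in fact it is 13); the frame of `S5740` (helper897) is used.
-/

set_option autoImplicit false
set_option linter.unusedSectionVars false

namespace Cfsg.Agent.H648.Loc

open CoxeterSystem Cfsg Cfsg.Lie Cfsg.Agent.ChevalleyStructure Cfsg.Agent.ChevalleyStructure.Elts
  Cfsg.Agent.ChevalleyStructure.CoxeterGeom Cfsg.Agent.ChevalleyStructure.CoxeterGeomTypes
  Cfsg.Agent.Tits.Roots
  Cfsg.Agent.Tits.Core Cfsg.Agent.Nodes.Reps
  Cfsg.Agent.Nodes.BNOf Cfsg.Agent.Nodes.RGDChev Cfsg.Agent.KFacts.RgdField Cfsg.Agent.KFacts.RgdChevCoord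
  Cfsg.Agent.BpExc.Tow Cfsg.Agent.BpExc.TowChev Cfsg.Agent.BpExc.LangFr Cfsg.Agent.BpExc.Fr
  Cfsg.Agent.BpExc.TorCent Cfsg.Agent.H897.Lat Cfsg.Agent.H897.Sg Cfsg.Agent.H897.Tor Cfsg.Agent.H897.Cen
  Cfsg.Agent.H897.Orb Cfsg.Agent.H897.Emb Cfsg.Agent.H897.Frm Cfsg.Agent.H897.Cas Cfsg.Agent.H897.Syl
  Cfsg.Agent.H897.Data
open Cfsg.Agent.BpExc.FamTw.Six (em coe_em em_injective sig_em)
open scoped Pointwise

universe u v

section

variable {k : Type v} [Field k] [CharP k 2] [IsAlgClosed k] (hk : LocFin k)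

/-- the exponents -/
def ex : Fin 6 → ℤ := ![1, 24, 10, 35, 14, 2]

/-- the vectors `y` with `g y - 2 y = e_j - c_j e_0` -/
def yv : Fin 6 → V := ![![0,0,0,0,0,0], ![10,-2,-2,-5,-1,5], ![4,-1,-2,-3,-1,2], ![14,-3,-4,-9,-2,7],
  ![6,-1,-1,-3,-1,3], ![1,0,0,0,0,0]]

def y39 : V := ![-16,3,4,9,2,-8]

theorem yv_eq : ∀ j : Fin 6, actR ws13 (pm (yv j)) - 2 • yv j = sr j - ex j • sr 0 := by decide +kernel

theorem y39_eq : actR ws13 (pm y39) - 2 • y39 = (39 : ℤ) • sr 0 := by decide +kernel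

include hk in
/-- The torus elements fixed by the twist of the frame are determined by one 39-th root of unity. -/
theorem ch_rel {W : Type*} [Group W] {cs : CoxeterSystem CoxeterMatrix.E₆ W} {τ : MulAut ↥(chevE6.group k)}
    {g : V ≃+ V} (F : SFr cs τ g) (hg : ∀ a, g a = actR ws13 (pm a)) {t : ↥(chevE6.group k)}
    (ht : t ∈ TT chevE6 k) (hτ : τ t = t) :
    ch hp (sr 0) t ^ 39 = 1 ∧ ∀ i, ch hp (sr i) t = ch hp (sr 0) t ^ ex i := by
  obtain ⟨φ, h0, h1, h2⟩ := chAddL hp cs hk 2 t ht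
  have hr : ∀ i, IsRoot cs hp.isCartan (sr i) := fun i => isRoot_sr _ _ i
  have hrel : ∀ a, φ (g a) = φ a ^ 2 := by
    intro a
    refine phi_ext (φ := fun a => φ (g a)) (ψ := fun a => φ a ^ 2) ?_ ?_ ?_ ?_ ?_ a
    · show φ (g 0) = 1
      rw [map_zero, h0]
    · intro x y
      show φ (g (x + y)) = _
      rw [map_add, h1]
    · show φ 0 ^ 2 = 1
      rw [h0, one_pow]
    · intro x y
      show φ (x + y) ^ 2 = _
      rw [h1, mul_pow]
    · intro i
      show φ (g (sr i)) = φ (sr i) ^ 2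
      have h3 := ch_tau hk F ht (a := sr i) (isRoot_sr' i)
      rw [hτ] at h3
      rw [← h2 _ ((F.fr.root _).2 (hr i)), ← h2 _ (hr i), h3]
  have hne : ∀ a, φ a ≠ 0 := by
    intro a ha
    have := h1 a (-a)
    rw [add_neg_cancel, h0, ha, zero_mul] at this
    exact one_ne_zero this
  have hsub : ∀ a b, φ (a - b) = φ a / φ b := by
    intro a b
    rw [eq_div_iff (hne b), ← h1, sub_add_cancel]
  have h2' : ∀ a : V, φ (actR ws13 (pm a) - 2 • a) = 1 := by
    intro a
    have e : (2 • a : V) = (2 : ℤ) • a := by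
      rw [two_smul, two_smul]
    rw [hsub, ← hg, hrel, e, phi_smul h0 h1, div_eq_one_iff_eq (zpow_ne_zero _ (hne a))]
    norm_cast
  constructor
  · have h3 := h2' y39
    rw [y39_eq, phi_smul h0 h1, ← h2 _ (hr 0)] at h3
    exact_mod_cast h3
  · intro i
    have h3 := h2' (yv i)
    rw [yv_eq i, hsub, div_eq_one_iff_eq (hne _), phi_smul h0 h1, ← h2 _ (hr 0), ← h2 _ (hr i)] at h3
    exact h3

end

variable {K : Type u} [Field K] [Fintype K] (hK : Fintype.card K = 4) {k : Type v} [Field k] [CharP k 2]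
  [IsAlgClosed k] (hk : LocFin k) (f : K →+* k)

include hK hk f in
theorem e6_cent_aux {x : ↥(twistedE6 K 2)} (hx : orderOf x = 13) :
    Nat.card (Subgroup.centralizer ({x} : Set ↥(twistedE6 K 2))) ≤ 39 ∧
      ∀ y ∈ Subgroup.centralizer ({x} : Set ↥(twistedE6 K 2)), y ^ 39 = 1 := by
  have hfin : Finite ↥(twistedE6 K 2) := Nat.finite_of_card_ne_zero (by rw [card_G hK]; norm_num)
  have h13 : Nat.Prime 13 := by norm_num
  obtain ⟨ζ, hζ⟩ := exists_prim (k := k) (l := 13) (by norm_num)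
  have hζ0 : ζ ≠ 0 := hζ.ne_zero (by norm_num)
  have hP : IsPGroup 13 (Subgroup.zpowers x) :=
    IsPGroup.of_card (n := 1) (by rw [Nat.card_zpowers, hx, pow_one])
  have hP1 : Subgroup.zpowers x ≠ ⊥ := by
    rw [Ne, Subgroup.zpowers_eq_bot]
    rintro rfl
    rw [orderOf_one] at hx
    omega
  obtain ⟨z, hz, hPm⟩ := exists_frame_one hK hk f ws13_mem (p := 13) h13 (by norm_num) (by norm_num) hζ
    c13_fix c13_ne hP hP1
  obtain ⟨τ, g, F, hg, hτ⟩ := hz.spec
  obtain ⟨hcT, -⟩ := tz_spec (ζ := ζ) hζ0 c13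
  -- the torus element is a power of the conjugate of `x`
  obtain ⟨x0, hx0, ex0⟩ : ∃ x0 ∈ Subgroup.zpowers x, em 2 f x0 = z * tz ζ c13 * z⁻¹ := by
    have h2 : z * tz ζ c13 * z⁻¹ ∈ (Subgroup.zpowers (tz ζ c13)).map (MulAut.conj z).toMonoidHom :=
      ⟨tz ζ c13, Subgroup.mem_zpowers _, rfl⟩
    rw [← hPm] at h2
    obtain ⟨x, hx, e⟩ := h2
    exact ⟨x, hx, e⟩
  have hT : ∀ y ∈ Subgroup.centralizer ({x} : Set ↥(twistedE6 K 2)), z⁻¹ * em 2 f y * z ∈ TT chevE6 k ∧
      τ (z⁻¹ * em 2 f y * z) = z⁻¹ * em 2 f y * z := by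
    intro y hy
    have hyx : y * x0 = x0 * y := by
      obtain ⟨m, rfl⟩ := hx0
      exact ((show Commute y x from Subgroup.mem_centralizer_singleton_iff.1 hy).zpow_right m).eq
    have h1 : em 2 f y * (z * tz ζ c13 * z⁻¹) = (z * tz ζ c13 * z⁻¹) * em 2 f y := by
      rw [← ex0, ← map_mul, ← map_mul, hyx]
    constructor
    · refine cent_reg hk h13 (by norm_num) (Set.finite_singleton (tz ζ c13)) ?_ ?_ ?_ ?_
      · rintro s rfl
        exact hcT
      · rintro s rfl
        exact tz_pow_eq_one hk (by norm_num) hζ c13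
      · intro a ha
        refine ⟨tz ζ c13, rfl, ?_⟩
        rw [ch_tz hk hζ0 _ ha, Ne, hζ.zpow_eq_one_iff_dvd]
        exact c13_reg a ha
      · rintro s rfl
        calc z⁻¹ * em 2 f y * z * tz ζ c13 = z⁻¹ * (em 2 f y * (z * tz ζ c13 * z⁻¹)) * z := by group
          _ = z⁻¹ * ((z * tz ζ c13 * z⁻¹) * em 2 f y) * z := by rw [h1]
          _ = _ := by group
    · have h2 := hτ (z⁻¹ * em 2 f y * z)
      have h3 : z * (z⁻¹ * em 2 f y * z) * z⁻¹ = em 2 f y := by group
      rw [h3, sg_em hK f] at h2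
      calc τ (z⁻¹ * em 2 f y * z) = z⁻¹ * (z * τ (z⁻¹ * em 2 f y * z) * z⁻¹) * z := by group
        _ = _ := by rw [← h2]
  have hinj : ∀ y ∈ Subgroup.centralizer ({x} : Set ↥(twistedE6 K 2)),
      ∀ y' ∈ Subgroup.centralizer ({x} : Set ↥(twistedE6 K 2)),
      ch hp (sr 0) (z⁻¹ * em 2 f y * z) = ch hp (sr 0) (z⁻¹ * em 2 f y' * z) → y = y' := by
    intro y hy y' hy' h
    obtain ⟨h1, h2⟩ := hT y hy
    obtain ⟨h3, h4⟩ := hT y' hy'
    have h5 := (ch_rel hk F hg h1 h2).2
    have h6 := (ch_rel hk F hg h3 h4).2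
    have h7 : z⁻¹ * em 2 f y * z = z⁻¹ * em 2 f y' * z := eq_of_ch h1 h3 fun i => by rw [h5, h6, h]
    exact em_injective (K := K) (q := 2) f (mul_left_cancel (mul_right_cancel h7))
  have hroot : ∀ y ∈ Subgroup.centralizer ({x} : Set ↥(twistedE6 K 2)),
      ch hp (sr 0) (z⁻¹ * em 2 f y * z) ^ 39 = 1 := fun y hy =>
    (ch_rel hk F hg (hT y hy).1 (hT y hy).2).1
  constructor
  · classical
    have h1 : Nat.card (Subgroup.centralizer ({x} : Set ↥(twistedE6 K 2))) ≤
        Nat.card {a : k // a ∈ (Polynomial.nthRoots 39 (1 : k)).toFinset} := by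
      refine Nat.card_le_card_of_injective
        (fun y => ⟨ch hp (sr 0) (z⁻¹ * em 2 f (y : ↥(twistedE6 K 2)) * z), ?_⟩) ?_
      · rw [Multiset.mem_toFinset, Polynomial.mem_nthRoots (by norm_num)]
        exact hroot y y.2
      · intro a b hab
        exact Subtype.ext (hinj a a.2 b b.2 (congrArg Subtype.val hab))
    refine h1.trans ?_
    rw [Nat.card_eq_fintype_card, Fintype.card_coe]
    exact (Multiset.toFinset_card_le _).trans (Polynomial.card_nthRoots 39 1)
  · intro y hy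
    refine hinj _ (pow_mem hy 39) _ (one_mem _) ?_
    have e1 : z⁻¹ * em 2 f (y ^ 39) * z = (z⁻¹ * em 2 f y * z) ^ 39 := by
      have := conj_pow (i := 39) (a := z⁻¹) (b := em 2 f y)
      rw [inv_inv] at this
      rw [this, map_pow]
    have e2 : z⁻¹ * em 2 f (1 : ↥(twistedE6 K 2)) * z = 1 := by rw [map_one]; group
    rw [e1, e2, ch_pow hk (hT y hy).1 (isRoot_sr' 0), hroot y hy, ch_one hk (isRoot_sr' 0)]

/-- **The centralizer of an element of order 13 of `²E₆(2)`.** -/
theorem e6_cent {K : Type u} [Field K] [Fintype K] (hK : Fintype.card K = 4) {x : ↥(twistedE6 K 2)}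
    (hx : orderOf x = 13) :
    Nat.card (Subgroup.centralizer ({x} : Set ↥(twistedE6 K 2))) ≤ 39 ∧
      ¬ 2 ∣ Nat.card (Subgroup.centralizer ({x} : Set ↥(twistedE6 K 2))) := by
  have hchar : CharP K 2 := by
    obtain ⟨q, hq⟩ := CharP.exists K
    have hqp : q.Prime := CharP.char_is_prime K q
    obtain ⟨n, -, hn⟩ := FiniteField.card K q
    rw [hK] at hn
    have h1 : q ∣ 2 ^ 2 := by
      have : q ∣ q ^ (n : ℕ) := dvd_pow_self q n.ne_zero
      rw [← hn] at this
      exact this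
    have h2 : q = 2 := (Nat.prime_dvd_prime_iff_eq hqp Nat.prime_two).1 (hqp.dvd_of_dvd_pow h1)
    rwa [← h2]
  let _ : Algebra (ZMod 2) K := ZMod.algebra K 2
  have hfin : Module.Finite (ZMod 2) K := Module.Finite.of_finite
  have halg : Algebra.IsAlgebraic (ZMod 2) K := Algebra.IsAlgebraic.of_finite (ZMod 2) K
  let f : K →ₐ[ZMod 2] AlgebraicClosure (ZMod 2) := IsAlgClosed.lift
  have hk : Cfsg.Agent.BpExc.TowChev.LocFin (AlgebraicClosure (ZMod 2)) :=
    Cfsg.Agent.BpExc.TowChev.locFin_of_isAlgebraic 2 _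
  obtain ⟨h1, h2⟩ := e6_cent_aux hK hk (f : K →+* AlgebraicClosure (ZMod 2)) hx
  have hfinG : Finite ↥(twistedE6 K 2) := Nat.finite_of_card_ne_zero (by rw [card_G hK]; norm_num)
  refine ⟨h1, fun hd => ?_⟩
  obtain ⟨⟨y, hy⟩, hy2⟩ := exists_prime_orderOf_dvd_card' 2 hd
  rw [Subgroup.orderOf_mk] at hy2
  have h3 := orderOf_dvd_of_pow_eq_one (h2 y hy)
  rw [hy2] at h3
  norm_num at h3

end Cfsg.Agent.H648.Loc
end
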